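import Groth.Agent.H83.DiagGen.Strong
import Groth.Agent.H56.ProjPC.Bound
import Groth.Agent.H83.ExtFinite.Vanish
import Groth.Agent.Lib.Perfect.SummandPerfect
import Groth.Agent.Lib.Perfect.OfCohomology

/-!
# Homological functors on perfect objects are bounded on coherent modules
-/

set_option autoImplicit false
set_option linter.style.haveILetI false
set_option linter.unusedSectionVars false

universe u v' u'

open CategoryTheory CategoryTheory.Limits AlgebraicGeometry CategoryTheory.Pretriangulated ZeroObject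

attribute [local instance] HasDerivedCategory.standard

namespace Groth.Agent.H83.DiagGen

open Groth.Agent.Lib Groth.Agent.Lib.DerivedOX

variable {X : Scheme.{u}}

/-- A retract of a perfect object is perfect. -/
theorem isPerfect_of_retract {A B : DCoh.D X} (r : Retract A B) (hB : DCoh.IsPerfect B) : DCoh.IsPerfect A := by
  obtain ⟨C, g, w, hT⟩ := distinguished_cocone_triangle r.i
  have hw : w = 0 := by
    have h : w ≫ r.i⟦(1 : ℤ)⟧' = 0 := comp_distTriang_mor_zero₃₁ _ hT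
    haveI : Mono r.i := mono_of_mono_fac r.retract
    haveI : Mono (r.i⟦(1 : ℤ)⟧') := inferInstance
    exact (cancel_mono (r.i⟦(1 : ℤ)⟧')).1 (h.trans zero_comp.symm)
  obtain ⟨e, -⟩ := exists_iso_binaryBiproduct_of_distTriang _ hT hw
  exact Perfect.SummandPerfect.isPerfect_of_biprod A C (Perfect.Triangle.isPerfect_of_iso e hB)

variable [ObjectProperty.IsTriangulated (fun K : DCoh.D X => DCoh.IsPerfect K)]
  {A : Type u'} [Category.{v'} A] [Abelian A]
  (H : (ObjectProperty.FullSubcategory (fun K : DCoh.D X => DCoh.IsPerfect K)) ⥤ A) [H.IsHomological]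

/-- The perfect subcategory. -/
abbrev PC (X : Scheme.{u}) := ObjectProperty.FullSubcategory (fun K : DCoh.D X => DCoh.IsPerfect K)

/-- `H` vanishes on the shifts of `K` outside `[-m, m]`. -/
def Bd (m : ℕ) : ObjectProperty (DCoh.D X) := fun K => ∃ hK : DCoh.IsPerfect K, ∀ i : ℤ,
  (i < -(m : ℤ) ∨ (m : ℤ) < i) → IsZero (H.obj ((⟨K, hK⟩ : PC X)⟦i⟧))

theorem Bd.mono {m n : ℕ} (h : m ≤ n) {K : DCoh.D X} : Bd H m K → Bd H n K := fun ⟨hK, hv⟩ =>
  ⟨hK, fun i hi => hv i (by omega)⟩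

theorem Bd.ext_same {m : ℕ} (T : Triangle (DCoh.D X)) (hT : T ∈ distTriang _) (h₁ : Bd H m T.obj₁)
    (h₃ : Bd H m T.obj₃) : Bd H m T.obj₂ := by
  obtain ⟨p₁, v₁⟩ := h₁
  obtain ⟨p₃, v₃⟩ := h₃
  obtain ⟨Y, hY, ⟨e⟩⟩ := ObjectProperty.ext_of_isTriangulatedClosed₂'
    (fun K : DCoh.D X => DCoh.IsPerfect K) T hT p₁ p₃
  have p₂ : DCoh.IsPerfect T.obj₂ := Perfect.Triangle.isPerfect_of_iso e.symm hY
  refine ⟨p₂, fun i hi => ?_⟩
  let A₁ : PC X := ⟨T.obj₁, p₁⟩
  let T₀ : Triangle (PC X) := Triangle.mk (ObjectProperty.homMk T.mor₁ : A₁ ⟶ ⟨T.obj₂, p₂⟩)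
    (ObjectProperty.homMk T.mor₂ : (⟨T.obj₂, p₂⟩ : PC X) ⟶ ⟨T.obj₃, p₃⟩)
    (ObjectProperty.homMk (T.mor₃ ≫
      ((ObjectProperty.ι (fun K : DCoh.D X => DCoh.IsPerfect K)).commShiftIso (1 : ℤ)).inv.app A₁))
  have hT₀ : T₀ ∈ distTriang (PC X) := by
    refine isomorphic_distinguished _ hT _ (Triangle.isoMk _ _ (Iso.refl _) (Iso.refl _) (Iso.refl _) ?_ ?_ ?_)
    · exact (Category.comp_id _).trans (Category.id_comp _).symm
    · exact (Category.comp_id _).trans (Category.id_comp _).symm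
    · change ((T.mor₃ ≫ _) ≫ _) ≫ (𝟙 _)⟦(1 : ℤ)⟧' = 𝟙 _ ≫ T.mor₃
      rw [CategoryTheory.Functor.map_id, Category.comp_id]
      refine (Category.assoc _ _ _).trans ?_
      refine (congrArg (T.mor₃ ≫ ·) (((ObjectProperty.ι (fun K : DCoh.D X => DCoh.IsPerfect K)).commShiftIso
        (1 : ℤ)).inv_hom_id_app A₁)).trans ?_
      exact (Category.comp_id _).trans (Category.id_comp _).symm
  have hex := H.map_distinguished_exact _ (Triangle.shift_distinguished _ hT₀ i)
  exact hex.isZero_X₂ ((v₁ i hi).eq_of_src _ _) ((v₃ i hi).eq_of_tgt _ _)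

theorem family_Bd : Family (Bd H) where
  zero K hK := ⟨Perfect.OfCohomology.isPerfect_of_isZero hK, fun i _ => H.map_isZero
    ((shiftFunctor (PC X) i).map_isZero ((IsZero.iff_id_eq_zero _).2
      (ObjectProperty.hom_ext _ (hK.eq_of_src _ _))))⟩
  iso n _ _ e h := by
    obtain ⟨hK, hv⟩ := h
    refine ⟨Perfect.Triangle.isPerfect_of_iso e hK, fun i hi => (hv i hi).of_iso ?_⟩
    exact H.mapIso ((shiftFunctor (PC X) i).mapIso (ObjectProperty.isoMk _ e).symm)
  shift c n := ⟨n + c.natAbs, fun K ⟨hK, hv⟩ => by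
    let K' : PC X := ⟨K, hK⟩
    have e : ((ObjectProperty.ι (fun L : DCoh.D X => DCoh.IsPerfect L)).obj (K'⟦c⟧)) ≅ K⟦c⟧ :=
      ((ObjectProperty.ι (fun L : DCoh.D X => DCoh.IsPerfect L)).commShiftIso c).app K'
    refine ⟨Perfect.Triangle.isPerfect_of_iso e (K'⟦c⟧).property, fun i hi =>
      (hv (c + i) (by omega)).of_iso (H.mapIso ?_)⟩
    exact (shiftFunctor (PC X) i).mapIso (ObjectProperty.isoMk _ e).symm ≪≫
      ((shiftFunctorAdd' (PC X) c i (c + i) rfl).app K').symm⟩
  ext n m := ⟨max n m, fun T hT h₁ h₃ =>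
    Bd.ext_same H T hT (Bd.mono H (le_max_left n m) h₁) (Bd.mono H (le_max_right n m) h₃)⟩
  retract n K L r h := by
    obtain ⟨hL, hv⟩ := h
    refine ⟨isPerfect_of_retract r hL, fun i hi => ?_⟩
    let r' : Retract (⟨K, isPerfect_of_retract r hL⟩ : PC X) ⟨L, hL⟩ :=
      { i := ObjectProperty.homMk r.i, r := ObjectProperty.homMk r.r
        retract := ObjectProperty.hom_ext _ r.retract }
    let s := (r'.map (shiftFunctor (PC X) i)).map H
    exact (IsZero.iff_id_eq_zero _).2 (s.retract.symm.trans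
      (by rw [(hv i hi).eq_of_tgt s.i 0, zero_comp]))

theorem sumClosed_Bd (m : ℕ) : SumClosed (Bd H m) where
  zero K hK := Bd.mono H (Nat.zero_le m) ((family_Bd H).zero K hK)
  iso e h := (family_Bd H).iso m e h
  sum {K L} hK hL := Bd.ext_same H (binaryBiproductTriangle K L)
    (binaryBiproductTriangle_distinguished K L) hK hL

/-- Coherent modules are uniformly bounded for `H`. -/
theorem exists_bound {k : Type u} [Field k] (f : X ⟶ Spec (CommRingCat.of k)) [IsProper f] [Smooth f]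
    (hfin : ∀ K : PC X, Set.Finite {i : ℤ | ¬ IsZero (H.obj (K⟦i⟧))}) :
    ∃ m : ℕ, ∀ (F : X.Modules), Coh.IsCoh F → DCoh.IsPerfect (DCoh.inD X F) → Bd H m (DCoh.inD X F) := by
  haveI : CompactSpace X := QuasiCompact.compactSpace_of_compactSpace f
  haveI : Flat f := FibreDeg.Basic.flat_of_field f
  haveI : LocallyOfFinitePresentation f := DvrCrit.lfp_of_lft f
  haveI : IsLocallyNoetherian X := LocallyOfFiniteType.isLocallyNoetherian f
  haveI : X.IsSeparated := ⟨by rw [← terminal.comp_from f]; infer_instance⟩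
  haveI := LeftExists.hasLpull (pullback.fst f f)
  haveI := Exists.hasRpush (pullback.snd f f)
  haveI := LeftExists.hasLpull f
  haveI := Exists.hasRpush f
  obtain ⟨r, U, hU, hcov⟩ := ExtFinite.exists_cover X
  obtain ⟨E, G, hE, hG, hd⟩ := exists_diag_mem X f
  let G' := DCoh.inD X G
  have hperf : ∀ {N : X.Modules}, FlatMod.IsFinLocFree N → DCoh.IsPerfect (DCoh.inD X N) := fun hN =>
    (Perfect.Triangle.isPerfect_iff _).2 fun x => Perfect.Regular.perfAt_inD hN x
  obtain ⟨m₀, hm₀⟩ : ∃ m₀ : ℕ, Bd H m₀ G' := by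
    obtain ⟨b, hb⟩ := ((hfin ⟨G', hperf hG⟩).image Int.natAbs).bddAbove
    refine ⟨b, hperf hG, fun i hi => ?_⟩
    by_contra hne
    have := hb ⟨i, hne, rfl⟩
    omega
  have hgen : ∀ j : ℤ, 0 ≤ j → j < (r : ℤ) + 1 → Bd H (m₀ + r) (G'⟦-j⟧) := fun j h1 h2 => by
    obtain ⟨hK, hv⟩ := hm₀
    let K' : PC X := ⟨G', hK⟩
    let ι := ObjectProperty.ι (fun L : DCoh.D X => DCoh.IsPerfect L)
    refine ⟨Perfect.Triangle.isPerfect_of_iso ((ι.commShiftIso (-j)).app K') (K'⟦-j⟧).property,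
      fun i hi => (hv (-j + i) (by omega)).of_iso (H.mapIso ?_)⟩
    exact (shiftFunctor (PC X) i).mapIso (ObjectProperty.isoMk _ ((ι.commShiftIso (-j)).app K')).symm ≪≫
      ((shiftFunctorAdd' (PC X) (-j) i (-j + i) rfl).app K').symm
  obtain ⟨n, hn⟩ := uniform_of_diag f
    (S := fun M : DCoh.D X => ∃ F : X.Modules, Coh.IsCoh F ∧ DCoh.IsPerfect (DCoh.inD X F) ∧ M = DCoh.inD X F)
    (family_Bd H) (fun M ⟨F, _, hp, hM⟩ => hM ▸ Perfect.QCohD.isQCohD_of_isPerfect hp) hE hG hd (m₀ + r)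
    fun M ⟨F, hF, hp, hM⟩ => by
      subst hM
      haveI := LeftExists.hasLTensorCx (mdl (DCoh.inD X F))
      have hT : DCoh.IsPerfect (ten (DCoh.inD X E) (DCoh.inD X F)) :=
        Groth.Agent.S13558.isPerfect_tensor (mdl (DCoh.inD X F))
          (Perfect.Triangle.isPerfect_of_iso (mdlIso _).symm hp) (hperf hE)
      have hR : DCoh.IsPerfect ((DCoh.Rpush f).obj (ten (DCoh.inD X E) (DCoh.inD X F))) :=
        Groth.Agent.S1002.result f _ hT
      obtain ⟨t⟩ := nonempty_ten_inD hE F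
      haveI : (ten (DCoh.inD X E) (DCoh.inD X F)).IsLE 0 :=
        DerivedCategory.TStructure.t.isLE_of_iso (X := (DerivedCategory.singleFunctor X.Modules 0).obj
          (CohB1.tensorMod E F)) t.symm 0
      have hge : (ten (DCoh.inD X E) (DCoh.inD X F)).IsGE 0 :=
        DerivedCategory.TStructure.t.isGE_of_iso (X := (DerivedCategory.singleFunctor X.Modules 0).obj
          (CohB1.tensorMod E F)) t.symm 0
      have h1 := BCFlat.isGE_Rpush f _ 0 hge
      have h2 := H56.ProjPC.isLE_Rpush_of_cover f U hU hcov _ 0 (Perfect.QCohD.isQCohD_of_isPerfect hT)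
      let Q : ObjectProperty (DCoh.D (Spec (CommRingCat.of k))) := fun R => Bd H (m₀ + r) ((spread f G').obj R)
      have hQ : SumClosed Q :=
        { zero := fun K hK => (sumClosed_Bd H _).zero _ ((spread f G').map_isZero hK)
          iso := fun e h => (family_Bd H).iso _ ((spread f G').mapIso e) h
          sum := fun {K L} hK hL => by
            haveI : PreservesBinaryBiproducts (spread f G') :=
              preservesBinaryBiproducts_of_preservesBiproducts _
            exact (family_Bd H).iso _ ((spread f G').mapBiprod K L).symm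
              ((sumClosed_Bd H _).sum hK hL) }
      refine of_sums k Q hQ (r + 1) 0 _ (Perfect.Coherent.isCohD_of_isPerfect hR) h1 ?_ fun j hj hj' => ?_
      · haveI := h2
        exact DerivedCategory.TStructure.t.isLE_of_le _ (0 + (r : ℤ)) _ (by omega)
      · obtain ⟨e⟩ := spread_one f G' (-j)
        exact (family_Bd H).iso _ e.symm (hgen j hj (by omega))
  exact ⟨n, fun F hF hp => hn _ ⟨F, hF, hp, rfl⟩⟩

end Groth.Agent.H83.DiagGen
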