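import Groth.Agent.H83.DiagGen.Vanish
import Groth.Agent.S6717
import Groth.Agent.S1109
import Groth.Agent.Lib.Perfect.Regular
import Groth.Agent.Lib.Cyc.SmoothReg
import Groth.Agent.Lib.TensorMod.LocFree
import Groth.Agent.Lib.Cyc.Dev.SchemeEquiv
import Groth.Agent.Lib.RefHull.Reflexive
import Mathlib.CategoryTheory.Triangulated.Generators

/-!
# The diagonal is built from finitely many box products
-/

set_option autoImplicit false
set_option linter.style.haveILetI false

universe u

open CategoryTheory CategoryTheory.Limits AlgebraicGeometry CategoryTheory.Pretriangulated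

attribute [local instance] HasDerivedCategory.standard

namespace Groth.Agent.H83.DiagGen

open Groth.Agent.Lib

section Triangulated

variable {C : Type*} [Category C] [HasZeroObject C] [HasShift C ℤ] [Preadditive C]
  [∀ n : ℤ, (shiftFunctor C n).Additive] [Pretriangulated C] [IsTriangulated C]

omit [IsTriangulated C] in
theorem trW_iso (P : ObjectProperty C) [P.IsTriangulated] {X Y : C} (e : X ≅ Y) : P.trW e.hom :=
  ObjectProperty.trW_of_isIso _ _

omit [IsTriangulated C] in
/-- If the zero map out of `X` has cone in `P`, then `X` is in `P`. -/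
theorem prop_of_trW_zero (P : ObjectProperty C) [P.IsTriangulated] [P.IsStableUnderRetracts]
    {X Y : C} (h : P.trW (0 : X ⟶ Y)) : P X := by
  obtain ⟨Z, g, w, hT, hZ⟩ := (P.trW_iff _).1 h
  have hR := rot_of_distTriang _ hT
  obtain ⟨s, hs⟩ := Triangle.coyoneda_exact₃ _ hR (𝟙 (X⟦(1 : ℤ)⟧)) (by
    show 𝟙 _ ≫ (-((0 : X ⟶ Y)⟦(1 : ℤ)⟧')) = 0
    rw [Functor.map_zero, neg_zero, comp_zero])
  have h1 : P (X⟦(1 : ℤ)⟧) := ObjectProperty.prop_of_retract P ⟨s, w, hs.symm⟩ hZ
  exact P.prop_of_iso ((shiftFunctorCompIsoId C (1 : ℤ) (-1) (by omega)).app X)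
    (P.le_shift (-1 : ℤ) _ h1)

end Triangulated

section Step

variable {Q : Scheme.{u}}

/-- A short exact sequence whose middle term lies in `P` gives a connecting map with cone in `P`. -/
theorem trW_singleδ (P : ObjectProperty (DCoh.D Q)) [P.IsTriangulated]
    {S : ShortComplex Q.Modules} (hS : S.ShortExact) (h : P (DCoh.inD Q S.X₂)) :
    P.trW hS.singleδ :=
  ObjectProperty.trW.mk' P (rot_of_distTriang _ hS.singleTriangle_distinguished) h

end Step

variable {k : Type u} [Field k] (X : Scheme.{u}) (f : X ⟶ Spec (CommRingCat.of k))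

/-- `p₁^*E ⊗ p₂^*G`. -/
noncomputable abbrev box (E G : X.Modules) : (pullback f f).Modules :=
  CohB1.tensorMod ((Scheme.Modules.pullback (pullback.fst f f)).obj E)
    ((Scheme.Modules.pullback (pullback.snd f f)).obj G)

/-- The thick triangulated subcategory generated by one box product. -/
noncomputable abbrev env (E G : X.Modules) : ObjectProperty (DCoh.D (pullback f f)) :=
  ObjectProperty.triangEnvelope
    (ObjectProperty.ofObj (fun _ : PUnit.{u + 1} => DCoh.inD (pullback f f) (box X f E G)))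

theorem box_mem (E G : X.Modules) : env X f E G (DCoh.inD (pullback f f) (box X f E G)) :=
  ObjectProperty.le_triangEnvelope _ _ (ObjectProperty.ofObj_apply _ PUnit.unit)

theorem env_mono {E E' G G' : X.Modules} (r : Retract E E') (s : Retract G G') :
    env X f E G ≤ env X f E' G' := by
  refine (ObjectProperty.triangEnvelope_le_iff _).2 ?_
  rintro _ ⟨⟨⟩⟩
  let r' := r.map (Scheme.Modules.pullback (pullback.fst f f))
  let s' := s.map (Scheme.Modules.pullback (pullback.snd f f))
  let t : Retract (box X f E G) (box X f E' G') :=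
    { i := TensorMod.Basic.tmap r'.i s'.i
      r := TensorMod.Basic.tmap r'.r s'.r
      retract := by rw [← TensorMod.Basic.tmap_comp, r'.retract, s'.retract, TensorMod.Basic.tmap_id] }
  exact ObjectProperty.prop_of_retract _ (t.map (DerivedCategory.singleFunctor _ 0)) (box_mem X f E' G')

variable [IsSeparated f] [Smooth f] [CompactSpace X]

theorem exists_trW : ∀ n : ℕ, ∃ (E G : X.Modules) (Z : (pullback f f).Modules),
    FlatMod.IsFinLocFree E ∧ FlatMod.IsFinLocFree G ∧ Coh.IsCoh Z ∧
    ∃ φ : DCoh.inD (pullback f f) ((Coh.push (pullback.diagonal f)).obj (Coh.structureModule X)) ⟶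
        (DCoh.inD (pullback f f) Z)⟦(n : ℤ)⟧, (env X f E G).trW φ := by
  letI : X.Over (Spec (CommRingCat.of k)) := ⟨f⟩
  haveI := LocallyOfFiniteType.isLocallyNoetherian f
  haveI : QuasiCompact f := inferInstance
  haveI : QuasiSeparatedSpace X := quasiSeparatedSpace_of_quasiSeparated f
  haveI := LocallyOfFiniteType.isLocallyNoetherian (pullback.fst f f)
  haveI : IsClosedImmersion (pullback.diagonal f) := inferInstance
  haveI : X.IsSeparated := ⟨by rw [← terminal.comp_from f]; infer_instance⟩
  have hX : PerfAux.HasResolutionProperty X := Groth.Agent.S1109.result X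
    (fun x => Cyc.SmoothReg.isRegularLocalRing_stalk f x) fun U V hU hV => hU.inf hV
  intro n
  induction n with
  | zero =>
    refine ⟨FlatMod.freeMod X 0, FlatMod.freeMod X 0, _,
      TensorMod.LocFree.of_rank (TensorMod.LocFree.isFinLocFree_freeMod X 0),
      TensorMod.LocFree.of_rank (TensorMod.LocFree.isFinLocFree_freeMod X 0),
      Cyc.Dev.SchemeEquiv.isCoh_push (pullback.diagonal f) RefHull.Reflexive.isCoh_structure,
      ((shiftFunctorZero' (DCoh.D (pullback f f)) _ Nat.cast_zero).app _).symm.hom, trW_iso _ _⟩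
  | succ n ih =>
    obtain ⟨E, G, Z, hE, hG, hZ, φ, hφ⟩ := ih
    obtain ⟨E', G', hE', hG', π₀, hπ₀⟩ := Groth.Agent.S6717.result k X X hX hX Z hZ.1 hZ.2
    let π : box X f E' G' ⟶ Z := π₀
    have hπ : Epi π := hπ₀
    have hB : Coh.IsCoh (box X f E' G') := ProjCoh.Coherent.isCoh_tensorMod
      (Cyc.FP.Stalk.isCoh_pullback (pullback.fst f f) (Perfect.Coherent.isCoh_of_isFinLocFree hE'))
      (Cyc.FP.Stalk.isCoh_pullback (pullback.snd f f) (Perfect.Coherent.isCoh_of_isFinLocFree hG'))
    let S : ShortComplex (pullback f f).Modules := ShortComplex.mk (kernel.ι π) π (kernel.condition π)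
    have hS : S.ShortExact :=
      { exact := ShortComplex.exact_of_f_is_kernel _ (kernelIsKernel π)
        mono_f := inferInstanceAs (Mono (kernel.ι π))
        epi_g := hπ }
    refine ⟨E ⨿ E', G ⨿ G', kernel π, TensorMod.LocFree.isFinLocFree_biprod hE hE',
      TensorMod.LocFree.isFinLocFree_biprod hG hG', CohBasics.Closure.isCoh_kernel π hB hZ.1,
      φ ≫ hS.singleδ⟦(n : ℤ)⟧' ≫
        ((shiftFunctorAdd' (DCoh.D (pullback f f)) (1 : ℤ) (n : ℤ) _ (by push_cast; ring)).app _).symm.hom, ?_⟩
    let W := env X f (E ⨿ E') (G ⨿ G')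
    have h1 : W.trW φ := ObjectProperty.trW_monotone
      (env_mono X f ⟨coprod.inl, coprod.desc (𝟙 E) 0, coprod.inl_desc _ _⟩
        ⟨coprod.inl, coprod.desc (𝟙 G) 0, coprod.inl_desc _ _⟩) _ hφ
    have h2 : W.trW hS.singleδ := trW_singleδ W hS
      (env_mono X f ⟨coprod.inr, coprod.desc 0 (𝟙 E'), coprod.inr_desc _ _⟩
        ⟨coprod.inr, coprod.desc 0 (𝟙 G'), coprod.inr_desc _ _⟩ _ (box_mem X f E' G'))
    exact MorphismProperty.comp_mem _ _ _ h1
      (MorphismProperty.comp_mem _ _ _ (ObjectProperty.trW.shift h2 (n : ℤ)) (trW_iso _ _))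

theorem exists_diag_mem : ∃ (E G : X.Modules), FlatMod.IsFinLocFree E ∧ FlatMod.IsFinLocFree G ∧
    env X f E G (DCoh.inD (pullback f f) ((Coh.push (pullback.diagonal f)).obj (Coh.structureModule X))) := by
  haveI : QuasiCompact f := inferInstance
  haveI := LocallyOfFiniteType.isLocallyNoetherian f
  haveI := LocallyOfFiniteType.isLocallyNoetherian (pullback.fst f f)
  haveI : CompactSpace ↥(pullback f f) := QuasiCompact.compactSpace_of_compactSpace (pullback.fst f f)
  let g : pullback f f ⟶ Spec (CommRingCat.of k) := pullback.fst f f ≫ f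
  have hP := Perfect.Regular.isPerfect_inD (X := pullback f f)
    (fun x => Cyc.SmoothReg.isRegularLocalRing_stalk g x)
    (Cyc.Dev.SchemeEquiv.isCoh_push (pullback.diagonal f) (RefHull.Reflexive.isCoh_structure (X := X)))
  obtain ⟨N, hN⟩ := exists_vanish g hP
  obtain ⟨E, G, Z, hE, hG, hZ, φ, hφ⟩ := exists_trW X f (N.toNat + 1)
  rw [hN Z hZ _ (by omega) φ] at hφ
  exact ⟨E, G, hE, hG, prop_of_trW_zero _ hφ⟩

end Groth.Agent.H83.DiagGen
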