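import Groth.Agent.H83.ProjPCCrit.Base
import Groth.Agent.Lib.Perfect.TildeFT
import Groth.Agent.Lib.Kaehler.LocFree
import Groth.Agent.Lib.TensorMod.LocFree
import Groth.Agent.Lib.Modules.SupportOps
import Groth.Agent.H56.ExtVanish.Trunc
import Groth.Agent.H56.PCSingle.Basic
import Groth.Agent.Lib.Perfect.Coherent

/-!
# Bounded coherent objects over a field are sums of shifts of `O`
-/

set_option autoImplicit false
set_option linter.style.haveILetI false

universe u

open CategoryTheory CategoryTheory.Limits AlgebraicGeometry CategoryTheory.Pretriangulated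

attribute [local instance] HasDerivedCategory.standard

namespace Groth.Agent.H83.DiagGen

open Groth.Agent.Lib Groth.Agent.Lib.DerivedOX

theorem isIso_fromTilde (R : CommRingCat.{u}) (M : (Spec R).Modules) (hM : Coh.IsCoh M) :
    IsIso (Scheme.Modules.fromTildeΓ M) :=
  (isQuasicoherent_iff_isIso_fromTildeΓ M).1 hM.1

theorem finite_Γ (R : CommRingCat.{u}) (M : (Spec R).Modules) [IsIso (Scheme.Modules.fromTildeΓ M)]
    (hM : CohB1.IsFT M) : Module.Finite R ((moduleSpecΓFunctor (R := R)).obj M) :=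
  Perfect.TildeFT.finite_of_isFT _
    (@Modules.SupportOps.isFT_of_iso _ _ _ (asIso (Scheme.Modules.fromTildeΓ M)).symm hM)

theorem iso_free_of_basis (R : CommRingCat.{u}) (M : (Spec R).Modules) [IsIso (Scheme.Modules.fromTildeΓ M)] (n : ℕ)
    (b : Module.Basis (Fin n) R ((moduleSpecΓFunctor (R := R)).obj M)) :
    Nonempty (M ≅ FlatMod.freeMod (Spec R) n) :=
  ⟨(asIso (Scheme.Modules.fromTildeΓ M)).symm ≪≫ Kaehler.LocFree.tildeFreeIso b⟩

theorem exists_basis (k : Type u) [Field k] (N : ModuleCat.{u} k) [Module.Finite k N] :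
    ∃ n : ℕ, Nonempty (Module.Basis (Fin n) k N) :=
  ⟨_, ⟨Module.finBasis k N⟩⟩

/-- Coherent modules over a field are free. -/
theorem exists_iso_free (k : Type u) [Field k] (M : (Spec (CommRingCat.of k)).Modules) (hM : Coh.IsCoh M) :
    ∃ n : ℕ, Nonempty (M ≅ FlatMod.freeMod (Spec (CommRingCat.of k)) n) := by
  haveI := isIso_fromTilde (CommRingCat.of k) M hM
  obtain ⟨n, ⟨b⟩⟩ := @exists_basis k _ _ (finite_Γ (CommRingCat.of k) M hM.2)
  exact ⟨n, iso_free_of_basis (CommRingCat.of k) M n b⟩

section Biprod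

variable {C : Type*} [Category C] [Preadditive C] [HasBinaryBiproducts C]

/-- Closure under binary sums. -/
structure SumClosed (Q : ObjectProperty C) : Prop where
  zero : ∀ A : C, IsZero A → Q A
  iso : ∀ {A B : C}, (A ≅ B) → Q A → Q B
  sum : ∀ {A B : C}, Q A → Q B → Q (A ⊞ B)

theorem SumClosed.hom_zero {E : C} : SumClosed (fun A : C => ∀ φ : A ⟶ E, φ = 0) where
  zero _ hA _ := hA.eq_of_src _ _
  iso e h φ := (cancel_epi e.hom).1 ((h (e.hom ≫ φ)).trans comp_zero.symm)
  sum ha hb φ := biprod.hom_ext' _ _ ((ha _).trans comp_zero.symm) ((hb _).trans comp_zero.symm)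

end Biprod

section Free

variable {C : Type*} [Category C] [Preadditive C] [HasBinaryBiproducts C] {S : Scheme.{u}}

/-- A sum closed property at the image of `O` holds at the images of free modules. -/
theorem SumClosed.free {Q : ObjectProperty C} (hQ : SumClosed Q) (F : S.Modules ⥤ C) [F.Additive]
    (h : Q (F.obj (Coh.structureModule S))) : ∀ n : ℕ, Q (F.obj (FlatMod.freeMod S n)) := by
  intro n
  induction n with
  | zero =>
    refine hQ.zero _ (F.map_isZero ((IsZero.iff_id_eq_zero _).2 ?_))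
    exact Sigma.hom_ext _ _ fun a => a.elim0
  | succ n ih =>
    haveI : PreservesBinaryBiproducts F := preservesBinaryBiproducts_of_preservesBiproducts F
    refine hQ.iso ?_ (hQ.sum ih (hQ.iso (F.mapIso (TensorMod.LocFree.freeModOneIso S).symm) h))
    exact (F.mapBiprod _ _).symm ≪≫ F.mapIso (biprod.isoCoprod _ _ ≪≫
      TensorMod.LocFree.freeModAddIso S n 1)

end Free

/-- Induction over sums of shifts of `O`. -/
theorem of_sums (k : Type u) [Field k] (Q : ObjectProperty (DCoh.D (Spec (CommRingCat.of k))))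
    (hQ : SumClosed Q) : ∀ (m : ℕ) (a : ℤ) (R : DCoh.D (Spec (CommRingCat.of k))), DCoh.IsCohD R →
      R.IsGE a → R.IsLE (a + m - 1) →
      (∀ j : ℤ, a ≤ j → j < a + m → Q ((CompactUnit.oneD (Spec (CommRingCat.of k)))⟦-j⟧)) → Q R := by
  intro m
  induction m with
  | zero =>
    intro a R _ hge hle _
    exact hQ.zero _ (DerivedCategory.TStructure.t.isZero R (a + (0 : ℕ) - 1) a (by simp))
  | succ m ih =>
    intro a R hR hge hle hgen
    let t := DerivedCategory.TStructure.t (C := (Spec (CommRingCat.of k)).Modules)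
    let b : ℤ := a + m
    let L := (t.truncLT b).obj R
    let U := (t.truncGE b).obj R
    have hL : DCoh.IsCohD L := fun i =>
      H56.ExtVanish.cohom_truncLT (fun M : (Spec (CommRingCat.of k)).Modules => Coh.IsCoh M)
        (fun e h => CohBasics.Closure.isCoh_of_iso e h)
        (fun {M} h => CohBasics.Closure.isCoh_of_iso ((isZero_kernel_of_mono (𝟙 _)).iso h)
          (CohBasics.Closure.isCoh_kernel (𝟙 _) (hR 0) (hR 0).1)) hR b i
    have hU : DCoh.IsCohD U := fun i =>
      H56.ExtVanish.cohom_truncGE (fun M : (Spec (CommRingCat.of k)).Modules => Coh.IsCoh M)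
        (fun e h => CohBasics.Closure.isCoh_of_iso e h)
        (fun {M} h => CohBasics.Closure.isCoh_of_iso ((isZero_kernel_of_mono (𝟙 _)).iso h)
          (CohBasics.Closure.isCoh_kernel (𝟙 _) (hR 0) (hR 0).1)) hR b i
    haveI : t.IsGE R a := hge
    haveI : t.IsLE R b := by
      have : R.IsLE (a + ((m + 1 : ℕ) : ℤ) - 1) := hle
      rwa [show (a + ((m + 1 : ℕ) : ℤ) - 1) = b by push_cast; omega] at this
    have hLge : L.IsGE a := inferInstanceAs (t.IsGE ((t.truncLT b).obj R) a)
    have hLle : L.IsLE (b - 1) := t.isLE_truncLT_obj R b (b - 1) (by omega)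
    have hUge : U.IsGE b := inferInstanceAs (t.IsGE ((t.truncGE b).obj R) b)
    have hUle : U.IsLE b := inferInstanceAs (t.IsLE ((t.truncGE b).obj R) b)
    obtain ⟨M, ⟨eM⟩⟩ := DerivedCategory.exists_iso_singleFunctor_obj_of_isGE_of_isLE U b
    let F : (Spec (CommRingCat.of k)).Modules ⥤ DCoh.D (Spec (CommRingCat.of k)) :=
      DerivedCategory.singleFunctor _ b
    have hMc : Coh.IsCoh M := CohBasics.Closure.isCoh_of_iso
      ((DerivedCategory.homologyFunctor _ b).mapIso eM ≪≫
        (DerivedCategory.singleFunctorCompHomologyFunctorIso _ b).app M) (hU b)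
    obtain ⟨n, ⟨eF⟩⟩ := exists_iso_free k M hMc
    let O := Coh.structureModule (Spec (CommRingCat.of k))
    let e1 : (CompactUnit.oneD (Spec (CommRingCat.of k)))⟦-b⟧ ≅ F.obj O :=
      (shiftFunctor _ (-b)).mapIso
        ((DerivedCategory.singleFunctorIsoCompQ _ 0).app O).symm ≪≫
      ((DerivedCategory.singleFunctors (Spec (CommRingCat.of k)).Modules).shiftIso (-b) b 0 (by omega)).app O
    let eU : F.obj (FlatMod.freeMod _ n) ≅ U := (eM ≪≫ F.mapIso eF).symm
    have hQU : Q U := hQ.iso eU
      (hQ.free F (hQ.iso e1 (hgen b (by omega) (by omega))) n)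
    have hq : DCoh.IsQCohD (L⟦(1 : ℤ)⟧) := fun i => (CohBasics.Closure.isCoh_of_iso
      (((DerivedCategory.homologyFunctor _ 0).shiftIso (1 : ℤ) i (i + 1) (by omega)).app L).symm (hL (i + 1))).1
    have hzero : ∀ φ : U ⟶ L⟦(1 : ℤ)⟧, φ = 0 := by
      refine SumClosed.hom_zero.iso eU (SumClosed.hom_zero.free F (SumClosed.hom_zero.iso e1 ?_) n)
      refine (ProjPCCrit.forall_hom_eq_zero_iff hq b (-b) (by omega)).2 ?_
      haveI : (L⟦(1 : ℤ)⟧).IsLE (b - 1 - 1) := t.isLE_shift L (b - 1) 1 (b - 1 - 1) (by omega)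
      exact DerivedCategory.isZero_of_isLE _ (b - 1 - 1) b (by omega)
    have hT := t.triangleLTGE_distinguished b R
    obtain ⟨e, -⟩ := exists_iso_binaryBiproduct_of_distTriang _ hT (hzero _)
    exact hQ.iso e.symm (hQ.sum
      (ih a L hL hLge (by rwa [show a + (m : ℤ) - 1 = b - 1 by omega])
        fun j h1 h2 => hgen j h1 (by push_cast; omega)) hQU)

end Groth.Agent.H83.DiagGen
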