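import Groth.Agent.H83.DiagGen.Ten
import Groth.Agent.H83.DiagGen.Main
import Groth.Agent.H83.DiagGen.SpecK
import Groth.Agent.Lib.DerivedOX.FMDiag
import Groth.Agent.Lib.DerivedOX.RpushTriangulated

/-!
# Evaluating kernels on an object
-/

set_option autoImplicit false
set_option linter.style.haveILetI false
set_option linter.unusedSectionVars false

universe u

open CategoryTheory CategoryTheory.Limits AlgebraicGeometry CategoryTheory.Pretriangulated ZeroObject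

attribute [local instance] HasDerivedCategory.standard

namespace Groth.Agent.H83.DiagGen

open Groth.Agent.Lib Groth.Agent.Lib.DerivedOX

variable {k : Type u} [Field k] {X : Scheme.{u}} (f : X ⟶ Spec (CommRingCat.of k))
  [DCoh.HasLpull (pullback.fst f f)] [DCoh.HasRpush (pullback.snd f f)]

/-- `K ↦ Rq_*(K ⊗^L Lp^*M)`. -/
noncomputable def ev (M : DCoh.D X) : DCoh.D (pullback f f) ⥤ DCoh.D X :=
  haveI := LeftExists.hasLTensorCx (mdl ((DCoh.Lpull (pullback.fst f f)).obj M))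
  DCoh.LTensorCx (mdl ((DCoh.Lpull (pullback.fst f f)).obj M)) ⋙ DCoh.Rpush (pullback.snd f f)

theorem ev_shift (M : DCoh.D X) (K : DCoh.D (pullback f f)) (n : ℤ) :
    Nonempty ((ev f M).obj (K⟦n⟧) ≅ ((ev f M).obj K)⟦n⟧) := by
  obtain ⟨e⟩ := ten_shift K ((DCoh.Lpull (pullback.fst f f)).obj M) n
  exact ⟨(DCoh.Rpush (pullback.snd f f)).mapIso e ≪≫
    ((DCoh.Rpush (pullback.snd f f)).commShiftIso n).app _⟩

theorem ev_isZero (M : DCoh.D X) {K : DCoh.D (pullback f f)} (hK : IsZero K) :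
    IsZero ((ev f M).obj K) :=
  (DCoh.Rpush (pullback.snd f f)).map_isZero (ten_isZero hK _)

theorem ev_dist (M : DCoh.D X) {T : Triangle (DCoh.D (pullback f f))} (hT : T ∈ distTriang _) :
    ∃ T' ∈ distTriang (DCoh.D X), T'.obj₁ = (ev f M).obj T.obj₁ ∧ T'.obj₂ = (ev f M).obj T.obj₂ ∧
      T'.obj₃ = (ev f M).obj T.obj₃ := by
  haveI := LeftExists.hasLTensorCx (mdl ((DCoh.Lpull (pullback.fst f f)).obj M))
  obtain ⟨δ, hδ⟩ := TensorTri.exists_dist (mdl ((DCoh.Lpull (pullback.fst f f)).obj M)) _ hT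
  exact ⟨_, (DCoh.Rpush (pullback.snd f f)).map_distinguished _ hδ, rfl, rfl, rfl⟩

/-- The diagonal gives the identity. -/
theorem ev_diag [IsSeparated f] (M : DCoh.D X) (hM : DCoh.IsQCohD M) :
    Nonempty ((ev f M).obj
      (DCoh.inD (pullback f f) ((Coh.push (pullback.diagonal f)).obj (Coh.structureModule X))) ≅ M) := by
  let K : DCoh.D (pullback f f) :=
    DCoh.inD (pullback f f) ((Coh.push (pullback.diagonal f)).obj (Coh.structureModule X))
  haveI := LeftExists.hasLTensorCx (mdl K)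
  obtain ⟨d⟩ := FMDiag.nonempty_phi_diag f (mdl K) (mdlIso K)
  obtain ⟨c⟩ := ten_comm K ((DCoh.Lpull (pullback.fst f f)).obj M)
  obtain ⟨e⟩ := ten_eq (mdl K) (mdlIso K) ((DCoh.Lpull (pullback.fst f f)).obj M)
  exact ⟨(DCoh.Rpush (pullback.snd f f)).mapIso (c ≪≫ e.symm) ≪≫ d.app ⟨M, hM⟩⟩

/-- `L ↦ Lf^*L ⊗^L G`. -/
noncomputable def spread [DCoh.HasLpull f] (G : DCoh.D X) : DCoh.D (Spec (CommRingCat.of k)) ⥤ DCoh.D X :=
  haveI := LeftExists.hasLTensorCx (mdl G)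
  DCoh.Lpull f ⋙ DCoh.LTensorCx (mdl G)

instance [DCoh.HasLpull f] [DCoh.HasRpush f] (G : DCoh.D X) : (spread f G).Additive := by
  haveI := LeftExists.hasLTensorCx (mdl G)
  haveI : (DCoh.Lpull f).IsLeftAdjoint := (PullPushAdj.derivedAdjunction f).isLeftAdjoint
  haveI : (DCoh.Lpull f).Additive := Functor.additive_of_preserves_binary_products _
  haveI := BettiExact.LTensorTri.additive_LTensorCx (mdl G)
  exact inferInstanceAs (DCoh.Lpull f ⋙ DCoh.LTensorCx (mdl G)).Additive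

theorem spread_one [DCoh.HasLpull f] [DCoh.HasRpush f] (G : DCoh.D X) (j : ℤ) :
    Nonempty ((spread f G).obj ((CompactUnit.oneD (Spec (CommRingCat.of k)))⟦j⟧) ≅ G⟦j⟧) := by
  obtain ⟨e1⟩ := RpushCoprod.nonempty_Lpull_one f
  obtain ⟨c⟩ := ten_congr (X := X)
    (((DCoh.Lpull f).commShiftIso j).app (CompactUnit.oneD (Spec (CommRingCat.of k))) ≪≫
      (shiftFunctor _ j).mapIso (e1 ≪≫
        (DerivedCategory.singleFunctorIsoCompQ X.Modules 0).app (Coh.structureModule X))) (Iso.refl G)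
  obtain ⟨s⟩ := ten_shift (CompactUnit.oneD X) G j
  obtain ⟨o⟩ := ten_one G
  obtain ⟨q⟩ := ten_congr (X := X)
    ((DerivedCategory.singleFunctorIsoCompQ X.Modules 0).app (Coh.structureModule X)).symm (Iso.refl G)
  exact ⟨c ≪≫ s ≪≫ (shiftFunctor _ j).mapIso (q ≪≫ o)⟩

/-- A box product gives cohomology spread along the second factor. -/
theorem ev_box [IsSeparated f] [Flat f] [QuasiCompact f] [CompactSpace X] [DCoh.HasLpull f] [DCoh.HasRpush f]
    {E G : X.Modules} (hE : FlatMod.IsFinLocFree E) (hG : FlatMod.IsFinLocFree G)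
    (M : DCoh.D X) (hM : DCoh.IsQCohD M) :
    Nonempty ((ev f M).obj (DCoh.inD (pullback f f) (box X f E G)) ≅
      (spread f (DCoh.inD X G)).obj ((DCoh.Rpush f).obj (ten (DCoh.inD X E) M))) := by
  let p := pullback.fst f f
  let q := pullback.snd f f
  haveI : Flat p := inferInstanceAs (Flat (pullback.fst f f))
  haveI : Flat q := inferInstanceAs (Flat (pullback.snd f f))
  haveI : CompactSpace ↥(pullback f f) := QuasiCompact.compactSpace_of_compactSpace p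
  haveI : QuasiSeparatedSpace X := quasiSeparatedSpace_of_quasiSeparated f
  haveI : QuasiSeparatedSpace ↥(pullback f f) := quasiSeparatedSpace_of_quasiSeparated p
  haveI := LeftExists.hasLpull q
  let B := (DCoh.Lpull p).obj M
  let E' := DCoh.inD X E
  let G' := DCoh.inD X G
  have hE' : DCoh.IsQCohD E' := Perfect.QCohD.isQCohD_of_isPerfect
    ((Perfect.Triangle.isPerfect_iff _).2 fun x => Perfect.Regular.perfAt_inD hE x)
  have hG' : DCoh.IsQCohD G' := Perfect.QCohD.isQCohD_of_isPerfect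
    ((Perfect.Triangle.isPerfect_iff _).2 fun x => Perfect.Regular.perfAt_inD hG x)
  obtain ⟨a⟩ := nonempty_ten_inD (TensorMod.LocFree.isFinLocFree_pullback p hE)
    ((Scheme.Modules.pullback q).obj G)
  obtain ⟨a1⟩ := nonempty_Lpull_inD p E
  obtain ⟨a2⟩ := nonempty_Lpull_inD q G
  obtain ⟨a3⟩ := ten_congr a1.symm a2.symm
  obtain ⟨c1⟩ := ten_comm ((DCoh.Lpull p).obj E') ((DCoh.Lpull q).obj G')
  obtain ⟨b1⟩ := ten_congr (a.symm ≪≫ a3 ≪≫ c1) (Iso.refl B)
  obtain ⟨b2⟩ := ten_assoc ((DCoh.Lpull q).obj G') ((DCoh.Lpull p).obj E') B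
  obtain ⟨b3⟩ := ten_pull p E' M
  obtain ⟨b4⟩ := ten_congr (Iso.refl ((DCoh.Lpull q).obj G')) b3.symm
  let N := ten E' M
  have hN : DCoh.IsQCohD N := by
    haveI := LeftExists.hasLTensorCx (mdl M)
    exact QCohLocal.isQCohD_LTensorCx (mdl M)
      ((DCoh.IsQCohD (X := X)).prop_of_iso (mdlIso M).symm hM) hE'
  have hLN : DCoh.IsQCohD ((DCoh.Lpull p).obj N) := QCohLocal.isQCohD_Lpull p hN
  obtain ⟨b5⟩ := ten_push q hG' hLN
  haveI := FMTools.isIso_bcD f f q p (Or.inr inferInstance) (IsPullback.of_hasPullback f f) N hN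
  obtain ⟨b6⟩ := ten_congr (Iso.refl G')
    (asIso ((BCSquare.bcD f f q p (IsPullback.of_hasPullback f f).w).app N)).symm
  obtain ⟨b7⟩ := ten_comm G' ((DCoh.Lpull f).obj ((DCoh.Rpush f).obj N))
  exact ⟨(DCoh.Rpush q).mapIso (b1 ≪≫ b2 ≪≫ b4) ≪≫ b5.symm ≪≫ b6 ≪≫ b7⟩

section Family

variable (S : ObjectProperty (DCoh.D X)) (F : ℕ → ObjectProperty (DCoh.D X))

/-- Kernels whose values on `S` lie uniformly in the family `F`. -/
def Uniform : ObjectProperty (DCoh.D (pullback f f)) :=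
  fun K => ∃ n, ∀ M, S M → F n ((ev f M).obj K)

/-- Closure properties of a family. -/
structure Family (F : ℕ → ObjectProperty (DCoh.D X)) : Prop where
  zero : ∀ A : DCoh.D X, IsZero A → F 0 A
  iso : ∀ (n : ℕ) {A B : DCoh.D X}, (A ≅ B) → F n A → F n B
  shift : ∀ (c : ℤ) (n : ℕ), ∃ n', ∀ A, F n A → F n' (A⟦c⟧)
  ext : ∀ n m : ℕ, ∃ l, ∀ T ∈ distTriang (DCoh.D X), F n T.obj₁ → F m T.obj₃ → F l T.obj₂
  retract : ∀ (n : ℕ) {A B : DCoh.D X}, Retract A B → F n B → F n A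

variable {S F}

theorem uniform_of_diag [IsSeparated f] [Flat f] [QuasiCompact f] [CompactSpace X] [DCoh.HasLpull f]
    [DCoh.HasRpush f] (hF : Family F) (hS : ∀ M, S M → DCoh.IsQCohD M) {E G : X.Modules}
    (hE : FlatMod.IsFinLocFree E) (hG : FlatMod.IsFinLocFree G)
    (hd : env X f E G (DCoh.inD (pullback f f) ((Coh.push (pullback.diagonal f)).obj (Coh.structureModule X))))
    (n₀ : ℕ) (h₀ : ∀ M, S M → F n₀ ((spread f (DCoh.inD X G)).obj ((DCoh.Rpush f).obj (ten (DCoh.inD X E) M)))) :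
    ∃ n, ∀ M, S M → F n M := by
  let P := Uniform f S F
  haveI : P.IsClosedUnderIsomorphisms := ⟨fun e ⟨n, h⟩ =>
    ⟨n, fun M hM => hF.iso n ((ev f M).mapIso e) (h M hM)⟩⟩
  haveI : P.IsStableUnderRetracts := ⟨fun r ⟨n, h⟩ =>
    ⟨n, fun M hM => hF.retract n (r.map (ev f M)) (h M hM)⟩⟩
  haveI : P.ContainsZero := ⟨⟨0, isZero_zero _, 0, fun M _ => hF.zero _ (ev_isZero f M (isZero_zero _))⟩⟩
  haveI : P.IsStableUnderShift ℤ := ⟨fun c => ⟨fun K ⟨n, h⟩ => by
    obtain ⟨n', hn'⟩ := hF.shift c n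
    refine ⟨n', fun M hM => ?_⟩
    obtain ⟨e⟩ := ev_shift f M K c
    exact hF.iso n' e.symm (hn' _ (h M hM))⟩⟩
  haveI : P.IsTriangulatedClosed₂ := .mk' fun T hT ⟨n, h⟩ ⟨m, h'⟩ => by
    obtain ⟨l, hl⟩ := hF.ext n m
    refine ⟨l, fun M hM => ?_⟩
    obtain ⟨T', hT', e₁, e₂, e₃⟩ := ev_dist f M hT
    rw [← e₂]
    exact hl T' hT' (e₁ ▸ h M hM) (e₃ ▸ h' M hM)
  haveI : P.IsTriangulated := {}
  have hle : env X f E G ≤ P := by
    refine (ObjectProperty.triangEnvelope_le_iff _).2 ?_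
    rintro _ ⟨⟨⟩⟩
    refine ⟨n₀, fun M hM => ?_⟩
    obtain ⟨e⟩ := ev_box f hE hG M (hS M hM)
    exact hF.iso n₀ e.symm (h₀ M hM)
  obtain ⟨n, h⟩ := hle _ hd
  refine ⟨n, fun M hM => ?_⟩
  obtain ⟨e⟩ := ev_diag f M (hS M hM)
  exact hF.iso n e (h M hM)

end Family

end Groth.Agent.H83.DiagGen
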