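import Groth.Agent.H83.DiagGen.Kernel
import Groth.Agent.S1002
import Groth.Agent.S13558
import Groth.Agent.Lib.FibreDeg.Basic
import Groth.Agent.Lib.DvrCrit.Curve
import Groth.Agent.Lib.Perfect.Coherent

/-!
# A strong generator of the perfect objects
-/

set_option autoImplicit false
set_option linter.style.haveILetI false
set_option linter.unusedSectionVars false

universe u

open CategoryTheory CategoryTheory.Limits AlgebraicGeometry CategoryTheory.Pretriangulated

attribute [local instance] HasDerivedCategory.standard

namespace Groth.Agent.H83.DiagGen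

open Groth.Agent.Lib Groth.Agent.Lib.DerivedOX

section Iter

variable {X : Scheme.{u}} (G : DCoh.D X)

/-- The steps of the envelope of a single object. -/
abbrev steps (n : ℕ) : ObjectProperty (DCoh.D X) :=
  (ObjectProperty.ofObj (fun _ : PUnit.{u + 1} => G)).triangEnvelopeIter n

theorem family_steps : Family (steps G) where
  zero A hA := ObjectProperty.prop_of_retract _
    { i := 0, r := 0, retract := hA.eq_of_src _ _ }
    (ObjectProperty.le_triangEnvelopeIter _ 0 _ (ObjectProperty.ofObj_apply _ PUnit.unit))
  iso n _ _ e h := (steps G n).prop_of_iso e h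
  shift c n := ⟨n, fun A h => (steps G n).le_shift c A h⟩
  ext n m := ⟨n + 1 + m, fun T hT h₁ h₃ => by
    rw [steps, ObjectProperty.triangEnvelopeIter_add _ (n := n + 1) (m := m) (n' := n) rfl]
    exact ObjectProperty.le_retractClosure _ _ ⟨_, _, _, _, _, hT, h₁, h₃⟩⟩
  retract n _ _ r h := ObjectProperty.prop_of_retract _ r h

theorem sumClosed_steps_zero : SumClosed (steps G 0) where
  zero := (family_steps G).zero
  iso e h := (family_steps G).iso 0 e h
  sum {A B} hA hB := by
    rw [steps, ObjectProperty.triangEnvelopeIter_zero] at hA hB ⊢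
    obtain ⟨A', hA', ⟨r⟩⟩ := hA
    obtain ⟨B', hB', ⟨s⟩⟩ := hB
    refine ⟨A' ⨯ B', ObjectProperty.prop_prod _ _ _ hA' hB', ⟨?_⟩⟩
    exact (Retract.ofIso (biprod.isoProd A B)).trans
      { i := prod.map r.i s.i, r := prod.map r.r s.r
        retract := by rw [prod.map_map, r.retract, s.retract, prod.map_id_id] }

theorem shift_mem_steps (j : ℤ) : steps G 0 (G⟦j⟧) :=
  (steps G 0).le_shift j G (ObjectProperty.le_triangEnvelopeIter _ 0 _ (ObjectProperty.ofObj_apply _ PUnit.unit))

end Iter

theorem exists_strong_generator (k : Type u) [Field k] (X : Scheme.{u})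
    (f : X ⟶ Spec (CommRingCat.of k)) [IsProper f] [Smooth f] :
    ∃ (G : DCoh.D X) (n : ℕ), DCoh.IsPerfect G ∧ ∀ K : DCoh.D X, DCoh.IsPerfect K → steps G n K := by
  haveI : CompactSpace X := QuasiCompact.compactSpace_of_compactSpace f
  haveI : Flat f := FibreDeg.Basic.flat_of_field f
  haveI : LocallyOfFinitePresentation f := DvrCrit.lfp_of_lft f
  haveI : IsLocallyNoetherian X := LocallyOfFiniteType.isLocallyNoetherian f
  haveI := LeftExists.hasLpull (pullback.fst f f)
  haveI := Exists.hasRpush (pullback.snd f f)
  haveI := LeftExists.hasLpull f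
  haveI := Exists.hasRpush f
  obtain ⟨E, G, hE, hG, hd⟩ := exists_diag_mem X f
  let G' := DCoh.inD X G
  have hperf : ∀ {N : X.Modules}, FlatMod.IsFinLocFree N → DCoh.IsPerfect (DCoh.inD X N) := fun hN =>
    (Perfect.Triangle.isPerfect_iff _).2 fun x => Perfect.Regular.perfAt_inD hN x
  obtain ⟨n, hn⟩ := uniform_of_diag f (S := fun M : DCoh.D X => DCoh.IsPerfect M) (family_steps G')
    (fun M hM => Perfect.QCohD.isQCohD_of_isPerfect hM) hE hG hd 0 fun M hM => by
      haveI := LeftExists.hasLTensorCx (mdl M)
      have hR : DCoh.IsPerfect ((DCoh.Rpush f).obj (ten (DCoh.inD X E) M)) :=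
        Groth.Agent.S1002.result f _ (Groth.Agent.S13558.isPerfect_tensor (mdl M)
          (Perfect.Triangle.isPerfect_of_iso (mdlIso M).symm hM) (hperf hE))
      obtain ⟨a, b, ha, hb⟩ := Perfect.Coherent.bounded_of_isPerfect hR
      let Q : ObjectProperty (DCoh.D (Spec (CommRingCat.of k))) := fun R => steps G' 0 ((spread f G').obj R)
      have hQ : SumClosed Q :=
        { zero := fun A hA => (family_steps G').zero _ ((spread f G').map_isZero hA)
          iso := fun e h => (family_steps G').iso 0 ((spread f G').mapIso e) h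
          sum := fun {A B} hA hB => by
            haveI : PreservesBinaryBiproducts (spread f G') :=
              preservesBinaryBiproducts_of_preservesBiproducts _
            exact (family_steps G').iso 0 ((spread f G').mapBiprod A B).symm
              ((sumClosed_steps_zero G').sum hA hB) }
      refine of_sums k Q hQ (b + 1 - a).toNat a _ (Perfect.Coherent.isCohD_of_isPerfect hR) ha ?_ fun j _ _ => ?_
      · haveI := hb
        exact DerivedCategory.TStructure.t.isLE_of_le _ b _ (by omega)
      · obtain ⟨e⟩ := spread_one f G' (-j)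
        exact (family_steps G').iso 0 e.symm (shift_mem_steps G' (-j))
  exact ⟨G', n, hperf hG, fun K hK => hn K hK⟩

end Groth.Agent.H83.DiagGen
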