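import Groth.Agent.Lib.DerivedOX.FMTools
import Groth.Agent.Lib.DerivedOX.TensorAssoc
import Groth.Agent.Lib.DerivedOX.TensorSymm
import Groth.Agent.Lib.DerivedOX.ProjectionQCoh
import Groth.Agent.Lib.DerivedOX.BCFlat
import Groth.Agent.H83.RegCrit.Tri
import Groth.Agent.H83.ExtFinite.Main
import Groth.Agent.H56.FMKHyper.Tensor

/-!
# The derived tensor product as an operation on objects
-/

set_option autoImplicit false
set_option linter.style.haveILetI false
set_option linter.unusedSectionVars false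

universe u

open CategoryTheory CategoryTheory.Limits AlgebraicGeometry CategoryTheory.Pretriangulated

attribute [local instance] HasDerivedCategory.standard

namespace Groth.Agent.H83.DiagGen

open Groth.Agent.Lib Groth.Agent.Lib.DerivedOX

variable {X Y : Scheme.{u}}

/-- A chosen K-flat model. -/
noncomputable def mdl (B : DCoh.D X) : CochainComplex X.Modules ℤ :=
  (QCohLocal.exists_kflat B).choose

theorem isKFlat_mdl (B : DCoh.D X) : DCoh.IsKFlat (mdl B) :=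
  (QCohLocal.exists_kflat B).choose_spec.1

noncomputable def mdlIso (B : DCoh.D X) : DerivedCategory.Q.obj (mdl B) ≅ B :=
  (QCohLocal.exists_kflat B).choose_spec.2.some

/-- `A ⊗^L B`. -/
noncomputable def ten (A B : DCoh.D X) : DCoh.D X :=
  haveI := LeftExists.hasLTensorCx (mdl B)
  (DCoh.LTensorCx (mdl B)).obj A

theorem ten_eq (F : CochainComplex X.Modules ℤ) [DCoh.HasLTensorCx F] {B : DCoh.D X}
    (e : DerivedCategory.Q.obj F ≅ B) (A : DCoh.D X) :
    Nonempty ((DCoh.LTensorCx F).obj A ≅ ten A B) := by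
  haveI := LeftExists.hasLTensorCx (mdl B)
  obtain ⟨i⟩ := FMTools.nonempty_congrTensor (e ≪≫ (mdlIso B).symm)
  exact ⟨i.app A⟩

theorem ten_congr {A A' B B' : DCoh.D X} (a : A ≅ A') (b : B ≅ B') :
    Nonempty (ten A B ≅ ten A' B') := by
  haveI := LeftExists.hasLTensorCx (mdl B)
  haveI := LeftExists.hasLTensorCx (mdl B')
  obtain ⟨i⟩ := ten_eq (mdl B) (mdlIso B ≪≫ b) A'
  exact ⟨(DCoh.LTensorCx (mdl B)).mapIso a ≪≫ i⟩

/-- Computation on models. -/
theorem ten_Q {P F : CochainComplex X.Modules ℤ} (hP : DCoh.IsKFlat P) :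
    Nonempty (ten (DerivedCategory.Q.obj P) (DerivedCategory.Q.obj F) ≅
      DerivedCategory.Q.obj ((DCoh.tensorCx.obj P).obj F)) := by
  haveI := LeftExists.hasLTensorCx F
  obtain ⟨i⟩ := ten_eq F (Iso.refl _) (DerivedCategory.Q.obj P)
  obtain ⟨j⟩ := QCohLocal.nonempty_LTensorCx_iso F hP
  exact ⟨i.symm ≪≫ j⟩

theorem ten_comm (A B : DCoh.D X) : Nonempty (ten A B ≅ ten B A) := by
  obtain ⟨i⟩ := ten_congr (mdlIso A).symm (mdlIso B).symm
  obtain ⟨j⟩ := ten_Q (F := mdl B) (isKFlat_mdl A)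
  obtain ⟨i'⟩ := ten_congr (mdlIso B).symm (mdlIso A).symm
  obtain ⟨j'⟩ := ten_Q (F := mdl A) (isKFlat_mdl B)
  exact ⟨i ≪≫ j ≪≫ DerivedCategory.Q.mapIso (TensorSymm.commCx _ _) ≪≫ j'.symm ≪≫ i'.symm⟩

theorem ten_assoc (A B C : DCoh.D X) : Nonempty (ten (ten A B) C ≅ ten A (ten B C)) := by
  haveI := LeftExists.hasLTensorCx (mdl B)
  haveI := LeftExists.hasLTensorCx (mdl C)
  haveI := LeftExists.hasLTensorCx ((DCoh.tensorCx.obj (mdl B)).obj (mdl C))
  obtain ⟨i⟩ := ten_congr (mdlIso B).symm (mdlIso C).symm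
  obtain ⟨j⟩ := ten_Q (F := mdl C) (isKFlat_mdl B)
  obtain ⟨l⟩ := ten_eq _ (i ≪≫ j).symm A
  exact ⟨(TensorAssoc.ltensorAssocIso (mdl B) (isKFlat_mdl C)).app A ≪≫ l⟩

theorem ten_one (A : DCoh.D X) :
    Nonempty (ten (DCoh.inD X (Coh.structureModule X)) A ≅ A) := by
  haveI := LeftExists.hasLTensorCx (mdl A)
  exact ⟨(DCoh.LTensorCx (mdl A)).mapIso
    ((DerivedCategory.singleFunctorIsoCompQ X.Modules 0).app (Coh.structureModule X)) ≪≫
    ExtFinite.oneTensorIso (mdl A) ≪≫ mdlIso A⟩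

/-- Pullback of a product. -/
theorem ten_pull (f : X ⟶ Y) [DCoh.HasLpull f] (A B : DCoh.D Y) :
    Nonempty ((DCoh.Lpull f).obj (ten A B) ≅ ten ((DCoh.Lpull f).obj A) ((DCoh.Lpull f).obj B)) := by
  haveI := LeftExists.hasLTensorCx (mdl B)
  let F' := mdl ((DCoh.Lpull f).obj (DerivedCategory.Q.obj (mdl B)))
  haveI := LeftExists.hasLTensorCx F'
  obtain ⟨i⟩ := FMTools.nonempty_pullTensor f (mdl B) F' (mdlIso _)
  obtain ⟨j⟩ := ten_eq F' (mdlIso _ ≪≫ (DCoh.Lpull f).mapIso (mdlIso B)) ((DCoh.Lpull f).obj A)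
  exact ⟨i.app A ≪≫ j⟩

/-- The projection formula. -/
theorem ten_push [CompactSpace X] [QuasiSeparatedSpace X] (f : X ⟶ Y) [QuasiCompact f] [QuasiSeparated f]
    [DCoh.HasLpull f] [DCoh.HasRpush f] {A : DCoh.D Y} (hA : DCoh.IsQCohD A) {B : DCoh.D X}
    (hB : DCoh.IsQCohD B) :
    Nonempty (ten A ((DCoh.Rpush f).obj B) ≅ (DCoh.Rpush f).obj (ten ((DCoh.Lpull f).obj A) B)) := by
  obtain ⟨I, i, hI, hi⟩ := DerCat.KInjExists.hasKInjRes (mdl B)
  haveI := hI
  haveI := hi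
  let eI : DerivedCategory.Q.obj I ≅ B := (asIso (DerivedCategory.Q.map i)).symm ≪≫ mdlIso B
  haveI := UnitCx.isIso_unitCx_of_isKInjective f I
  let ε := (asIso ((UnitCx.unitCx f).app I)).symm
  let C := (KFlat.res Y).obj ((GammaAcyclic.pushC f).obj I)
  let g : C ⟶ (GammaAcyclic.pushC f).obj I := (KFlat.aug Y).app _
  haveI : QuasiIso g := KFlat.quasiIso_aug _
  haveI := LeftExists.hasLTensorCx C
  haveI := LeftExists.hasLTensorCx I
  haveI := ProjectionQCoh.isIso_projMap_of_isQCohD (f := f) (g := g)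
    ((DCoh.IsQCohD (X := X)).prop_of_iso eI.symm hB) hA
  obtain ⟨a⟩ := ten_eq C (asIso (DerivedCategory.Q.map g) ≪≫ ε.symm ≪≫ (DCoh.Rpush f).mapIso eI) A
  obtain ⟨b⟩ := ten_eq I eI ((DCoh.Lpull f).obj A)
  exact ⟨a.symm ≪≫ asIso ((ProjectionMap.projMap f g).app A) ≪≫ (DCoh.Rpush f).mapIso b⟩

/-- `Lf^*` of a module along a flat map. -/
theorem nonempty_Lpull_inD (f : X ⟶ Y) [Flat f] [DCoh.HasLpull f] (M : Y.Modules) :
    Nonempty ((DCoh.Lpull f).obj (DCoh.inD Y M) ≅ DCoh.inD X ((Scheme.Modules.pullback f).obj M)) := by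
  haveI := BCFlat.isIso_counitCx f ((CochainComplex.singleFunctor Y.Modules 0).obj M)
  exact ⟨(DCoh.Lpull f).mapIso ((DerivedCategory.singleFunctorIsoCompQ Y.Modules 0).app M) ≪≫
    asIso ((PullTranspose.counitCx f).app _) ≪≫
    DerivedCategory.Q.mapIso ((HomologicalComplex.singleMapHomologicalComplex
      (Scheme.Modules.pullback f) (ComplexShape.up ℤ) 0).app M) ≪≫
    ((DerivedCategory.singleFunctorIsoCompQ X.Modules 0).app _).symm⟩

/-- Product of modules, one of which is locally free. -/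
theorem nonempty_ten_inD {M : X.Modules} (hM : FlatMod.IsFinLocFree M) (N : X.Modules) :
    Nonempty (ten (DCoh.inD X M) (DCoh.inD X N) ≅ DCoh.inD X (CohB1.tensorMod M N)) := by
  let P := (HomologicalComplex.single X.Modules (ComplexShape.up ℤ) 0).obj M
  let F := (HomologicalComplex.single X.Modules (ComplexShape.up ℤ) 0).obj N
  obtain ⟨a⟩ := ten_congr ((DerivedCategory.singleFunctorIsoCompQ X.Modules 0).app M)
    ((DerivedCategory.singleFunctorIsoCompQ X.Modules 0).app N)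
  obtain ⟨b⟩ := ten_Q (F := F) (GammaAcyclic.isKFlat_single (TensorMod.FPConv.isFlat_of_isFinLocFree hM) 0 :
    DCoh.IsKFlat P)
  exact ⟨a ≪≫ b ≪≫ DerivedCategory.Q.mapIso
    (((SingleTensor.singleZeroIso (DCoh.tensorBi (X := X)) M).app F).symm ≪≫
      (HomologicalComplex.singleMapHomologicalComplex ((DCoh.tensorBi (X := X)).obj M)
        (ComplexShape.up ℤ) 0).app N) ≪≫
    ((DerivedCategory.singleFunctorIsoCompQ X.Modules 0).app _).symm⟩

theorem ten_isZero {A : DCoh.D X} (hA : IsZero A) (B : DCoh.D X) : IsZero (ten A B) :=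
  haveI := LeftExists.hasLTensorCx (mdl B)
  RegCrit.LT_isZero (mdl B) hA

theorem ten_shift (A B : DCoh.D X) (n : ℤ) : Nonempty (ten (A⟦n⟧) B ≅ (ten A B)⟦n⟧) :=
  haveI := LeftExists.hasLTensorCx (mdl B)
  RegCrit.nonempty_LT_shift (mdl B) A n

theorem ten_dist {T : Triangle (DCoh.D X)} (hT : T ∈ distTriang (DCoh.D X)) (B : DCoh.D X) :
    ∃ T' ∈ distTriang (DCoh.D X), T'.obj₁ = ten T.obj₁ B ∧ T'.obj₂ = ten T.obj₂ B ∧
      T'.obj₃ = ten T.obj₃ B := by
  haveI := LeftExists.hasLTensorCx (mdl B)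
  obtain ⟨δ, hδ⟩ := TensorTri.exists_dist (mdl B) _ hT
  exact ⟨_, hδ, rfl, rfl, rfl⟩

end Groth.Agent.H83.DiagGen
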