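import Groth.Agent.H83.ExtFinite.Vanish
import Groth.Agent.H56.ProjPC.Bound
import Groth.Agent.H56.PSup.PC
import Groth.Agent.Lib.DerivedOX.DualMain
import Groth.Agent.Lib.Perfect.Coherent
import Groth.Agent.H56.PCSingle.Basic

/-!
# `Hom(E, M[i]) = 0` for `i ≫ 0`, uniformly in the coherent module `M`
-/

set_option autoImplicit false
set_option linter.style.haveILetI false
set_option linter.unusedSectionVars false

universe u

open CategoryTheory CategoryTheory.Limits AlgebraicGeometry HomologicalComplex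

attribute [local instance] HasDerivedCategory.standard

namespace Groth.Agent.H83.DiagGen

open Groth.Agent.H83.ExtFinite Groth.Agent.Lib Groth.Agent.Lib.DerivedOX Groth.Agent.Lib.Gen43.Affine

theorem exists_vanish {A : Type u} [CommRing A] [IsNoetherianRing A] {X : Scheme.{u}}
    (f : X ⟶ Spec (CommRingCat.of A)) [IsSeparated f] [LocallyOfFiniteType f] [CompactSpace X]
    {E : DCoh.D X} (hE : DCoh.IsPerfect E) :
    ∃ N : ℤ, ∀ M : X.Modules, Coh.IsCoh M → ∀ i : ℤ, N < i → ∀ φ : E ⟶ (DCoh.inD X M)⟦i⟧, φ = 0 := by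
  haveI : IsLocallyNoetherian X := LocallyOfFiniteType.isLocallyNoetherian f
  haveI : QuasiCompact f := inferInstance
  haveI : IsNoetherian X := {}
  haveI : X.IsSeparated := ⟨by rw [← terminal.comp_from f]; infer_instance⟩
  obtain ⟨r, U, hU, hcov⟩ := exists_cover X
  let E₀ := DerivedCategory.Q.objPreimage E
  let eE : DCoh.toD X E₀ ≅ E := DerivedCategory.Q.objObjPreimageIso E
  haveI := LeftExists.hasLTensorCx E₀
  haveI := DualHomExists.hasRSheafHom E₀
  haveI := Exists.hasRpush f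
  haveI := LeftExists.hasLpull f
  have hE₀ : DCoh.IsPerfect (DCoh.toD X E₀) := Perfect.Triangle.isPerfect_of_iso eE.symm hE
  obtain ⟨-, c, -, hc⟩ := Perfect.Coherent.bounded_of_isPerfect hE₀
  haveI : (DCoh.toD X E₀).IsLE c := hc
  have hEc := Perfect.Coherent.isCohD_of_isPerfect hE₀
  haveI : QuasiIso ((KFlat.aug X).app E₀) := KFlat.quasiIso_aug E₀
  have hKf := KFlat.isKFlat_res E₀
  let q := (KFlat.aug X).app E₀
  obtain ⟨J₀, hp, ⟨e⟩⟩ := DualMain.exists_dual (K := E₀) hKf q hE₀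
  obtain ⟨α, β, D, hDv, hDf, ⟨eD⟩⟩ := SchColim29.PerfTensor.flatAmp_of_isPerfect
    (Perfect.Triangle.isPerfect_of_iso e hp)
  haveI := LeftExists.hasLTensorCx D
  refine ⟨β + r, fun M hM i hi => ?_⟩
  let a : ℤ := 0
  let b : ℤ := 0
  let K : DCoh.D X := DCoh.inD X M
  have hK : DCoh.IsCohD K := fun j => by
    by_cases hj : j = 0
    · subst hj
      exact CohBasics.Closure.isCoh_of_iso (H56.PCSingle.HDInD M).symm hM
    · exact CohBasics.Closure.isCoh_of_iso
        ((isZero_kernel_of_mono (𝟙 M)).iso (H56.PCSingle.isZero_HD_inD M j hj))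
        (CohBasics.Closure.isCoh_kernel (𝟙 M) hM hM.1)
  haveI : K.IsGE a := inferInstanceAs (DerivedCategory.IsGE ((DerivedCategory.singleFunctor X.Modules 0).obj M) 0)
  haveI : K.IsLE b := inferInstanceAs (DerivedCategory.IsLE ((DerivedCategory.singleFunctor X.Modules 0).obj M) 0)
  let L := K⟦i⟧
  haveI : L.IsLE (b - i) := DerivedCategory.TStructure.t.isLE_shift K b i (b - i) (by omega)
  haveI : L.IsGE (a - i) := DerivedCategory.TStructure.t.isGE_shift K a i (a - i) (by omega)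
  have hL : DCoh.IsCohD L := fun j => CohBasics.Closure.isCoh_of_iso
    (((DerivedCategory.homologyFunctor X.Modules 0).shiftIso i j (i + j) rfl).app K).symm (hK (i + j))
  obtain ⟨θ⟩ := DualMain.nonempty_LTensorCx_iso_RSheafHom (K := E₀) hKf q hE₀ D eD L
  let R := (DCoh.RSheafHom E₀).obj L
  haveI : R.IsLE (b - i + β) := by
    haveI := H56.PSup.PC.isLE_LTensor D (b - i) β (fun j hj => hDv j (Or.inr hj)) ‹_›
    exact DerivedCategory.TStructure.t.isLE_of_iso θ _
  have hR : DCoh.IsQCohD R := fun n => (SchColim29.RHomLocal.isCoh_HD E₀ L hL (a - i) (a - i - n - 1)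
    ((Perfect.PseudoCoh.iff_forall _ _).2
      fun x => Perfect.PCCoh.pcAt_of_coh (a - i - n - 1) (c + 1 - (a - i - n - 1)).toNat
        (DCoh.toD X E₀) c (by omega) inferInstance (fun i _ _ => hEc i) x) n (by omega)).1
  haveI := H56.ProjPC.isLE_Rpush_of_cover f U hU hcov R (b - i + β) hR
  have hP : DCoh.IsQCohD ((DCoh.Rpush f).obj R) := RpushQCoh.isQCohD_Rpush f R hR
  obtain ⟨e1⟩ := RpushCoprod.nonempty_Lpull_one f
  have h0 : ∀ ψ : CompactUnit.oneD (S A) ⟶ (DCoh.Rpush f).obj R, ψ = 0 := fun ψ => by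
    have h := (ProjPCCrit.forall_hom_eq_zero_iff hP 0 0 (add_zero 0)).2
      (DerivedCategory.isZero_of_isLE _ (b - i + β + r) 0 (by omega))
      (((shiftFunctorZero _ ℤ).app _).hom ≫ ψ)
    exact (cancel_epi _).1 (h.trans comp_zero.symm)
  let W : (E ⟶ L) ≃ (CompactUnit.oneD (S A) ⟶ (DCoh.Rpush f).obj R) :=
    ((Iso.homCongr (oneTensorIso E₀ ≪≫ eE) (Iso.refl L)).symm.trans
      ((DCoh.RSheafHomAdj E₀).homEquiv _ L)).trans
      ((Iso.homCongr (e1 ≪≫ (DerivedCategory.singleFunctorIsoCompQ X.Modules 0).app (Coh.structureModule X))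
        (Iso.refl R)).symm.trans ((PullPushAdj.derivedAdjunction f).homEquiv _ R))
  haveI : Subsingleton (CompactUnit.oneD (S A) ⟶ (DCoh.Rpush f).obj R) := subsingleton_of_forall_eq 0 h0
  intro φ
  exact W.subsingleton.elim φ 0

end Groth.Agent.H83.DiagGen
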